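import Mathlib

/-!
# Morphisms out of the spectrum of a complete ring
-/

set_option autoImplicit false

universe u

open CategoryTheory CategoryTheory.Limits AlgebraicGeometry

namespace HomLiftCpl

variable {B : Type u} [CommRing B] (I : Ideal B)

/-- The closed immersion `Spec (B ⧸ I) ⟶ Spec B`. -/
noncomputable abbrev cl : Spec (CommRingCat.of (B ⧸ I)) ⟶ Spec (CommRingCat.of B) :=
  Spec.map (CommRingCat.ofHom (Ideal.Quotient.mk I))

theorem range_cl : Set.range (cl I).base = PrimeSpectrum.zeroLocus (I : Set B) := by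
  rw [show Set.range (cl I).base = Set.range (PrimeSpectrum.comap (Ideal.Quotient.mk I)) from rfl,
    range_comap_of_surjective _ _ Ideal.Quotient.mk_surjective, Ideal.mk_ker]

/-- A morphism which maps `V(I)` into an open set maps everything into it, `I` in the radical. -/
theorem preimage_eq_top [IsAdicComplete I B] {X : Scheme.{u}} (V : X.Opens)
    (f : Spec (CommRingCat.of B) ⟶ X) (h : ∀ p, (cl I ≫ f).base p ∈ V) : f ⁻¹ᵁ V = ⊤ := by
  by_contra hne
  obtain ⟨p, hp⟩ : ∃ p : PrimeSpectrum B, p ∉ f ⁻¹ᵁ V := by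
    by_contra h'
    push_neg at h'
    exact hne (SetLike.ext fun q => ⟨fun _ => trivial, fun _ => h' q⟩)
  obtain ⟨m, hm, hpm⟩ := Ideal.exists_le_maximal p.asIdeal p.isPrime.ne_top
  let q : PrimeSpectrum B := ⟨m, hm.isPrime⟩
  have hq : q ∉ f ⁻¹ᵁ V := by
    intro hqV
    exact hp (((PrimeSpectrum.le_iff_specializes p q).mp hpm).mem_open (f ⁻¹ᵁ V).isOpen hqV)
  have hIm : I ≤ m := (IsAdicComplete.le_jacobson_bot (I := I)).trans
    (sInf_le ⟨bot_le, hm⟩)
  have hq' : q ∈ Set.range (cl I).base := by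
    rw [range_cl]
    exact hIm
  obtain ⟨r, hr⟩ := hq'
  apply hq
  show f.base q ∈ V
  rw [← hr]
  exact h r

/-- Uniqueness, when `V(I)` goes into an affine open. -/
theorem ext_of_affine [IsAdicComplete I B] {X : Scheme.{u}} (V : X.Opens) (hV : IsAffineOpen V)
    (f g : Spec (CommRingCat.of B) ⟶ X) (hf : ∀ p, (cl I ≫ f).base p ∈ V)
    (h : ∀ n : ℕ, cl (I ^ n) ≫ f = cl (I ^ n) ≫ g) : f = g := by
  have h1 : cl I ≫ f = cl I ≫ g := by
    have := h 1
    rwa [pow_one] at this
  have hF : Set.range f.base ⊆ Set.range hV.fromSpec.base := by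
    rw [hV.range_fromSpec]
    rintro _ ⟨p, rfl⟩
    exact (preimage_eq_top I V f hf).ge (trivial : p ∈ (⊤ : (Spec (CommRingCat.of B)).Opens))
  have hG : Set.range g.base ⊆ Set.range hV.fromSpec.base := by
    rw [hV.range_fromSpec]
    rintro _ ⟨p, rfl⟩
    exact (preimage_eq_top I V g (fun p => h1 ▸ hf p)).ge
      (trivial : p ∈ (⊤ : (Spec (CommRingCat.of B)).Opens))
  obtain ⟨φ, hφ⟩ := Spec.map_surjective (IsOpenImmersion.lift hV.fromSpec f hF)
  obtain ⟨ψ, hψ⟩ := Spec.map_surjective (IsOpenImmersion.lift hV.fromSpec g hG)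
  have eφ : Spec.map φ ≫ hV.fromSpec = f := by rw [hφ, IsOpenImmersion.lift_fac]
  have eψ : Spec.map ψ ≫ hV.fromSpec = g := by rw [hψ, IsOpenImmersion.lift_fac]
  suffices φ = ψ by rw [← eφ, this, eψ]
  ext x
  rw [← sub_eq_zero]
  refine IsHausdorff.haus (inferInstance : IsHausdorff I B) _ fun n => ?_
  rw [SModEq.zero, smul_eq_mul, Ideal.mul_top]
  have hn := h n
  rw [← eφ, ← eψ, ← Category.assoc, ← Category.assoc, cancel_mono, ← Spec.map_comp,
    ← Spec.map_comp] at hn
  rw [← Ideal.Quotient.eq_zero_iff_mem, map_sub, sub_eq_zero]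
  exact congrArg (fun k => k.hom x) (Spec.map_injective hn)

/-- Existence, when `V(I)` goes into an affine open. -/
theorem exists_of_affine [IsAdicComplete I B] {X : Scheme.{u}} (V : X.Opens) (hV : IsAffineOpen V)
    (u : (n : ℕ) → (Spec (CommRingCat.of (B ⧸ I ^ n)) ⟶ X))
    (hu : ∀ n : ℕ, Spec.map (CommRingCat.ofHom (Ideal.Quotient.factor
        (Ideal.pow_le_pow_right (I := I) (Nat.le_succ n)))) ≫ u (n + 1) = u n)
    (h1 : ∀ p, (u 1).base p ∈ V) :
    ∃ f : Spec (CommRingCat.of B) ⟶ X, ∀ n : ℕ, cl (I ^ n) ≫ f = u n := by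
  have hgen : ∀ {m n : ℕ} (hle : m ≤ n), Spec.map (CommRingCat.ofHom (Ideal.Quotient.factor
      (Ideal.pow_le_pow_right (I := I) hle))) ≫ u n = u m := by
    intro m n hle
    induction hle with
    | refl =>
      have : Ideal.Quotient.factor (Ideal.pow_le_pow_right (I := I) (le_refl m)) = RingHom.id _ :=
        Ideal.Quotient.ringHom_ext (by ext; simp)
      rw [this, CommRingCat.ofHom_id, Spec.map_id, Category.id_comp]
    | @step k hk ih =>
      rw [← ih, ← hu k, ← Category.assoc, ← Spec.map_comp, ← CommRingCat.ofHom_comp]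
      congr 3
      exact Ideal.Quotient.ringHom_ext (by ext; simp)
  have hr : ∀ n, Set.range (u n).base ⊆ Set.range hV.fromSpec.base := by
    intro n
    rw [hV.range_fromSpec]
    rintro _ ⟨p, rfl⟩
    rcases Nat.eq_zero_or_pos n with rfl | hn
    · exfalso
      exact p.isPrime.ne_top ((Ideal.eq_top_iff_one _).mpr (by
        have : (1 : B ⧸ I ^ 0) = 0 := by
          rw [← map_one (Ideal.Quotient.mk (I ^ 0)), Ideal.Quotient.eq_zero_iff_mem, pow_zero]
          simp
        rw [this]
        exact p.asIdeal.zero_mem))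
    · have hs : Function.Surjective (Spec.map (CommRingCat.ofHom (Ideal.Quotient.factor
          (Ideal.pow_le_pow_right (I := I) hn)))).base := by
        intro q
        have hk : ∀ x ∈ RingHom.ker (Ideal.Quotient.factor
            (Ideal.pow_le_pow_right (I := I) hn)), IsNilpotent x := by
          intro x hx
          obtain ⟨y, rfl⟩ := Ideal.Quotient.mk_surjective x
          rw [RingHom.mem_ker, Ideal.Quotient.factor_mk, Ideal.Quotient.eq_zero_iff_mem] at hx
          simp only [Nat.succ_eq_add_one, zero_add, pow_one] at hx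
          exact ⟨n, by rw [← map_pow, Ideal.Quotient.eq_zero_iff_mem]
                       exact Ideal.pow_mem_pow hx n⟩
        have hrg := range_comap_of_surjective _ _
          (Ideal.Quotient.factor_surjective (Ideal.pow_le_pow_right (I := I) hn))
        have : q ∈ Set.range (PrimeSpectrum.comap (Ideal.Quotient.factor
            (Ideal.pow_le_pow_right (I := I) hn))) := by
          rw [hrg]
          exact fun x hx => nilradical_le_prime (q : PrimeSpectrum (B ⧸ I ^ n)).asIdeal (hk x hx)
        exact this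
      obtain ⟨q, rfl⟩ := hs p
      rw [← Scheme.Hom.comp_apply, hgen hn]
      exact h1 q
  choose φ hφ using fun n => Spec.map_surjective (IsOpenImmersion.lift hV.fromSpec (u n) (hr n))
  have eφ : ∀ n, Spec.map (φ n) ≫ hV.fromSpec = u n := fun n => by
    rw [hφ, IsOpenImmersion.lift_fac]
  have hcompat : ∀ {m n : ℕ} (hle : m ≤ n),
      (Ideal.Quotient.factorPow I hle).comp (φ n).hom = (φ m).hom := by
    intro m n hle
    have h := hgen hle
    rw [← eφ m, ← eφ n, ← Category.assoc, cancel_mono, ← Spec.map_comp] at h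
    exact congrArg CommRingCat.Hom.hom (Spec.map_injective h)
  let L := AdicCompletion.liftRingHom I (fun n => (φ n).hom) hcompat
  let e := RingEquiv.ofBijective (AdicCompletion.ofAlgEquiv I : B ≃ₐ[B] AdicCompletion I B).toRingEquiv
    (RingEquiv.bijective _)
  refine ⟨Spec.map (CommRingCat.ofHom (e.symm.toRingHom.comp L)) ≫ hV.fromSpec, fun n => ?_⟩
  rw [← eφ n, ← Category.assoc, ← Spec.map_comp]
  congr 2
  ext x
  show Ideal.Quotient.mk (I ^ n) (e.symm (L x)) = (φ n).hom x
  have h := AdicCompletion.evalₐ_liftRingHom I (fun n => (φ n).hom) hcompat n x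
  rw [← h]
  show _ = AdicCompletion.evalₐ I n (L x)
  conv_rhs => rw [← e.apply_symm_apply (L x)]
  exact (AdicCompletion.evalₐ_of I n _).symm

/-- The quotient by the complement of an idempotent stays complete. -/
theorem isAdicComplete_quotient_idem [IsAdicComplete I B] (e : B) (he : IsIdempotentElem e) :
    IsAdicComplete (I.map (Ideal.Quotient.mk (Ideal.span {1 - e}))) (B ⧸ Ideal.span {1 - e}) := by
  have hz : ∀ x : B, Ideal.Quotient.mk (Ideal.span {1 - e}) (e * x) =
      Ideal.Quotient.mk (Ideal.span {1 - e}) x := fun x => by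
    rw [Ideal.Quotient.eq, Ideal.mem_span_singleton]
    exact ⟨-x, by ring⟩
  have hker : ∀ x : B, x ∈ Ideal.span {1 - e} → e * x = 0 := fun x hx => by
    obtain ⟨y, rfl⟩ := Ideal.mem_span_singleton.mp hx
    rw [← mul_assoc, he.mul_one_sub_self, zero_mul]
  have hmem : ∀ (n : ℕ) (x : B), Ideal.Quotient.mk (Ideal.span {1 - e}) x ∈
      (I.map (Ideal.Quotient.mk (Ideal.span {1 - e}))) ^ n → e * x ∈ I ^ n := by
    intro n x hx
    rw [← Ideal.map_pow, Ideal.mem_map_iff_of_surjective _ Ideal.Quotient.mk_surjective] at hx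
    obtain ⟨y, hy, hyx⟩ := hx
    rw [Ideal.Quotient.eq] at hyx
    have := hker _ hyx
    rw [mul_sub, sub_eq_zero] at this
    rw [← this]
    exact Ideal.mul_mem_left _ _ hy
  refine { haus' := ?_, prec' := ?_ }
  · intro x hx
    obtain ⟨x, rfl⟩ := Ideal.Quotient.mk_surjective x
    rw [← hz]
    have : e * x = 0 := IsHausdorff.haus (inferInstance : IsHausdorff I B) _ fun n => by
      rw [SModEq.zero, smul_eq_mul, Ideal.mul_top]
      refine hmem n x ?_
      have := hx n
      rwa [SModEq.zero, smul_eq_mul, Ideal.mul_top] at this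
    rw [this, map_zero]
  · intro f hf
    choose g hg using fun n => Ideal.Quotient.mk_surjective (f n)
    have hc : ∀ {m n : ℕ}, m ≤ n → e * g m ≡ e * g n [SMOD (I ^ m • ⊤ : Submodule B B)] := by
      intro m n hmn
      rw [SModEq.sub_mem, smul_eq_mul, Ideal.mul_top, ← mul_sub]
      refine hmem m _ ?_
      rw [map_sub, hg, hg]
      have := hf hmn
      rwa [SModEq.sub_mem, smul_eq_mul, Ideal.mul_top] at this
    obtain ⟨L, hL⟩ := IsPrecomplete.prec (inferInstance : IsPrecomplete I B) hc
    refine ⟨Ideal.Quotient.mk _ L, fun n => ?_⟩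
    rw [SModEq.sub_mem, smul_eq_mul, Ideal.mul_top, ← hg n, ← hz (g n), ← map_sub,
      ← Ideal.map_pow]
    refine Ideal.mem_map_of_mem _ ?_
    have := hL n
    rwa [SModEq.sub_mem, smul_eq_mul, Ideal.mul_top] at this

end HomLiftCpl
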