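import Mathlib
import Groth.Agent.HomLiftCpl.Basic

/-!
# Morphisms out of a complete semilocal ring
-/

set_option autoImplicit false

universe u

open CategoryTheory CategoryTheory.Limits AlgebraicGeometry TensorProduct

namespace HomLiftCpl

/-- A finite module over a complete Noetherian ring is complete. -/
theorem isAdicComplete_of_finite {A M : Type u} [CommRing A] [IsNoetherianRing A] (I : Ideal A)
    [IsAdicComplete I A] [AddCommGroup M] [Module A M] [Module.Finite A M] :
    IsAdicComplete I M := by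
  rw [← AdicCompletion.of_bijective_iff]
  let e₁ : A ≃ₗ[A] AdicCompletion I A :=
    LinearEquiv.ofBijective (AdicCompletion.of I A) (AdicCompletion.of_bijective_iff.mpr inferInstance)
  let e : M ≃ₗ[A] AdicCompletion I M :=
    (TensorProduct.lid A M).symm ≪≫ₗ TensorProduct.congr e₁ (LinearEquiv.refl A M) ≪≫ₗ
      (AdicCompletion.ofTensorProductEquivOfFiniteNoetherian I M).restrictScalars A
  have he : (e : M → AdicCompletion I M) = AdicCompletion.of I M := by
    funext x
    show AdicCompletion.ofTensorProductEquivOfFiniteNoetherian I M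
      (e₁ (1 : A) ⊗ₜ[A] x) = _
    rw [AdicCompletion.ofTensorProductEquivOfFiniteNoetherian_apply,
      AdicCompletion.ofTensorProduct_tmul]
    ext n
    simp [e₁]
    exact one_smul _ _
  rw [← he]
  exact e.bijective

variable {B : Type u} [CommRing B] (I : Ideal B) [IsAdicComplete I B]

theorem isUnit_of_mk_isUnit {x : B} (h : IsUnit (Ideal.Quotient.mk I x)) : IsUnit x :=
  (isLocalHom_of_le_jacobson_bot I (IsAdicComplete.le_jacobson_bot I)).map_nonunit x h

/-- An idempotent in the radical vanishes. -/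
theorem idem_eq_zero {e : B} (he : IsIdempotentElem e) (hm : e ∈ I) : e = 0 := by
  have hu : IsUnit (1 - e) := isUnit_of_mk_isUnit I (by
    rw [map_sub, map_one, Ideal.Quotient.eq_zero_iff_mem.mpr hm, sub_zero]
    exact isUnit_one)
  have := he.mul_one_sub_self
  rw [mul_comm] at this
  exact (hu.mul_right_eq_zero).mp this

/-- Idempotents lift along a complete quotient. -/
theorem exists_idem_lift (e₀ : B ⧸ I) (h : IsIdempotentElem e₀) :
    ∃ e : B, IsIdempotentElem e ∧ Ideal.Quotient.mk I e = e₀ := by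
  obtain ⟨a₀, rfl⟩ := Ideal.Quotient.mk_surjective e₀
  have hmon : (Polynomial.X ^ 2 - Polynomial.X : Polynomial B).Monic :=
    Polynomial.monic_X_pow_sub (Polynomial.degree_X_le.trans_lt (by decide))
  obtain ⟨a, ha, hd⟩ := HenselianRing.is_henselian (R := B) (I := I) _ hmon a₀ (by
    rw [← Ideal.Quotient.eq_zero_iff_mem]
    simp only [Polynomial.eval_sub, Polynomial.eval_pow, Polynomial.eval_X, map_sub, map_pow]
    rw [sq, h, sub_self]) (by
    have : Polynomial.eval a₀ (Polynomial.derivative (Polynomial.X ^ 2 - Polynomial.X : Polynomial B))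
        = 2 * a₀ - 1 := by simp; ring
    rw [this]
    refine IsUnit.of_mul_eq_one (Ideal.Quotient.mk I (2 * a₀ - 1)) ?_
    rw [← map_mul, ← map_one (Ideal.Quotient.mk I)]
    simp only [map_mul, map_sub, map_ofNat, map_one]
    linear_combination 4 * h.eq)
  refine ⟨a, ?_, Ideal.Quotient.eq.mpr hd⟩
  have := ha
  simp only [Polynomial.IsRoot, Polynomial.eval_sub, Polynomial.eval_pow, Polynomial.eval_X,
    sub_eq_zero] at this
  show a * a = a
  rwa [sq] at this

/-- `B` splits along the points of an artinian `B ⧸ I`. -/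
theorem exists_split [IsArtinianRing (B ⧸ I)] :
    ∃ (ι : Type u) (_ : Fintype ι) (e : ι → B), CompleteOrthogonalIdempotents e ∧
      ∀ i, (PrimeSpectrum.zeroLocus ((I : Set B) ∪ {1 - e i})).Subsingleton := by
  classical
  have hex : ∀ p : PrimeSpectrum (B ⧸ I), ∃ e : B, IsIdempotentElem e ∧
      PrimeSpectrum.basicOpen (Ideal.Quotient.mk I e) = ({p} : Set (PrimeSpectrum (B ⧸ I))) := by
    intro p
    obtain ⟨e₀, he₀, hp⟩ := PrimeSpectrum.exists_idempotent_basicOpen_eq_of_isClopen
      (isClopen_discrete {p})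
    obtain ⟨e, he, rfl⟩ := exists_idem_lift I e₀ he₀
    exact ⟨e, he, hp.symm⟩
  choose e he hD using hex
  haveI : Fintype (PrimeSpectrum (B ⧸ I)) := Fintype.ofFinite _
  have hor : OrthogonalIdempotents e := by
    refine ⟨he, fun p q hpq => ?_⟩
    refine idem_eq_zero I (by
      show e p * e q * (e p * e q) = e p * e q
      rw [mul_mul_mul_comm, (he p).eq, (he q).eq]) ?_
    rw [← Ideal.Quotient.eq_zero_iff_mem]
    have hi : IsIdempotentElem (Ideal.Quotient.mk I (e p * e q)) := by
      show _ = _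
      rw [← map_mul, mul_mul_mul_comm, (he p).eq, (he q).eq]
    have hn : IsNilpotent (Ideal.Quotient.mk I (e p * e q)) := by
      rw [← PrimeSpectrum.basicOpen_eq_bot_iff, map_mul, PrimeSpectrum.basicOpen_mul]
      refine SetLike.ext' ?_
      rw [TopologicalSpace.Opens.coe_inf, hD, hD, TopologicalSpace.Opens.coe_bot,
        Set.singleton_inter_eq_empty]
      exact hpq
    exact hi.eq_zero_of_isNilpotent hn
  refine ⟨PrimeSpectrum (B ⧸ I), ‹_›, e, ⟨hor, ?_⟩, fun p => ?_⟩
  · have hu : IsUnit (∑ p, e p) := isUnit_of_mk_isUnit I (by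
      by_contra hu
      obtain ⟨m, hm, hmem⟩ := exists_max_ideal_of_mem_nonunits hu
      let q : PrimeSpectrum (B ⧸ I) := ⟨m, hm.isPrime⟩
      have h1 : q ∈ (PrimeSpectrum.basicOpen (Ideal.Quotient.mk I (e q)) : Set _) := by
        rw [hD]; rfl
      apply h1
      have : Ideal.Quotient.mk I (e q) * Ideal.Quotient.mk I (∑ p, e p) =
          Ideal.Quotient.mk I (e q) := by
        rw [← map_mul, hor.mul_sum_of_mem (Finset.mem_univ q)]
      show Ideal.Quotient.mk I (e q) ∈ m
      rw [← this]
      exact m.mul_mem_left _ hmem)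
    have hidem : IsIdempotentElem (∑ p, e p) := hor.isIdempotentElem_sum
    exact (IsIdempotentElem.iff_eq_one_of_isUnit hu).mp hidem
  · intro x hx y hy
    have key : ∀ z ∈ PrimeSpectrum.zeroLocus ((I : Set B) ∪ {1 - e p}),
        z = PrimeSpectrum.comap (Ideal.Quotient.mk I) p := by
      intro z hz
      have hIz : z ∈ Set.range (PrimeSpectrum.comap (Ideal.Quotient.mk I)) := by
        rw [range_comap_of_surjective _ _ Ideal.Quotient.mk_surjective, Ideal.mk_ker]
        exact (Set.subset_union_left (s := (I : Set B))).trans hz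
      obtain ⟨r, rfl⟩ := hIz
      congr 1
      have : r ∈ (PrimeSpectrum.basicOpen (Ideal.Quotient.mk I (e p)) : Set _) := by
        intro hr
        have h1 : (1 - e p) ∈ (PrimeSpectrum.comap (Ideal.Quotient.mk I) r).asIdeal :=
          hz (Set.mem_union_right _ rfl)
        exact r.isPrime.ne_top ((Ideal.eq_top_iff_one _).mpr (by
          have := r.asIdeal.add_mem (Ideal.mem_comap.mp h1) hr
          rwa [← map_add, sub_add_cancel, map_one] at this))
      rw [hD] at this
      exact this
    rw [key x hx, key y hy]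

/-- Level `n` of the piece cut out by `e`, to level `n`. -/
noncomputable abbrev toPiece (e : B) (n : ℕ) : B ⧸ I ^ n →+*
    (B ⧸ Ideal.span {1 - e}) ⧸ (I.map (Ideal.Quotient.mk (Ideal.span {1 - e}))) ^ n :=
  Ideal.quotientMap _ (Ideal.Quotient.mk (Ideal.span {1 - e}))
    (by
      rw [← Ideal.map_pow]
      exact Ideal.le_comap_map)

theorem cl_piece (e : B) (n : ℕ) :
    cl ((I.map (Ideal.Quotient.mk (Ideal.span {1 - e}))) ^ n) ≫ cl (Ideal.span {1 - e}) =
      Spec.map (CommRingCat.ofHom (toPiece I e n)) ≫ cl (I ^ n) := by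
  rw [← Spec.map_comp, ← Spec.map_comp]
  rfl

/-- Morphisms out of `Spec B` are compatible families out of the levels. -/
theorem ext_and_exists [IsArtinianRing (B ⧸ I)] (X : Scheme.{u}) :
    (∀ f g : Spec (CommRingCat.of B) ⟶ X, (∀ n, cl (I ^ n) ≫ f = cl (I ^ n) ≫ g) → f = g) ∧
    (∀ u : (n : ℕ) → (Spec (CommRingCat.of (B ⧸ I ^ n)) ⟶ X),
      (∀ n : ℕ, Spec.map (CommRingCat.ofHom (Ideal.Quotient.factor
          (Ideal.pow_le_pow_right (I := I) (Nat.le_succ n)))) ≫ u (n + 1) = u n) →
      ∃ f : Spec (CommRingCat.of B) ⟶ X, ∀ n : ℕ, cl (I ^ n) ≫ f = u n) := by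
  classical
  obtain ⟨ι, hι, e, he, hsub⟩ := exists_split I
  set P : ι → CommRingCat.{u} := fun i => CommRingCat.of (B ⧸ Ideal.span {1 - e i}) with hP
  let J : (i : ι) → Ideal (P i) := fun i => I.map (Ideal.Quotient.mk (Ideal.span {1 - e i}))
  haveI : ∀ i, IsAdicComplete (J i) (P i) := fun i =>
    isAdicComplete_quotient_idem I (e i) (he.idem i)
  let Φ : Spec (CommRingCat.of (Π i, P i)) ≅ Spec (CommRingCat.of B) :=
    Scheme.Spec.mapIso (RingEquiv.toCommRingCatIso
      (RingEquiv.ofBijective _ he.bijective_pi : B ≃+* Π i, P i)).op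
  let Ψ : (∐ fun i => Spec (P i)) ≅ Spec (CommRingCat.of B) := asIso (sigmaSpec P) ≪≫ Φ
  have hΨ : ∀ i, Sigma.ι (fun i => Spec (P i)) i ≫ Ψ.hom = cl (Ideal.span {1 - e i}) := by
    intro i
    show Sigma.ι _ i ≫ sigmaSpec P ≫ Spec.map _ = _
    rw [ι_sigmaSpec_assoc, ← Spec.map_comp]
    rfl
  have hss : ∀ i, ∀ p q : Spec (CommRingCat.of (P i ⧸ J i)), p = q := by
    intro i p q
    have hinj : Function.Injective (PrimeSpectrum.comap
        ((Ideal.Quotient.mk (J i)).comp (Ideal.Quotient.mk (Ideal.span {1 - e i})))) :=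
      PrimeSpectrum.comap_injective_of_surjective _
        (Ideal.Quotient.mk_surjective.comp Ideal.Quotient.mk_surjective)
    refine hinj (hsub i ?_ ?_) <;>
    · intro x hx
      rw [SetLike.mem_coe, PrimeSpectrum.comap_asIdeal, Ideal.mem_comap, RingHom.comp_apply]
      rcases hx with hx | rfl
      · rw [Ideal.Quotient.eq_zero_iff_mem.mpr (Ideal.mem_map_of_mem _ hx)]
        exact zero_mem _
      · rw [Ideal.Quotient.eq_zero_iff_mem.mpr (Ideal.mem_span_singleton_self _), map_zero]
        exact zero_mem _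
  have haff : ∀ (i : ι) (h : Spec (CommRingCat.of (P i ⧸ J i)) ⟶ X),
      ∃ V : X.Opens, IsAffineOpen V ∧ ∀ p, h.base p ∈ V := by
    intro i h
    rcases isEmpty_or_nonempty (Spec (CommRingCat.of (P i ⧸ J i))) with hE | hE
    · exact ⟨⊥, isAffineOpen_bot X, fun p => (IsEmpty.false p).elim⟩
    · obtain ⟨_, ⟨V, hV, rfl⟩, hzV, -⟩ :=
        X.isBasis_affineOpens.exists_subset_of_mem_open (Set.mem_univ (h.base hE.some)) isOpen_univ
      exact ⟨V, hV, fun p => hss i hE.some p ▸ hzV⟩
  refine ⟨fun f g h => ?_, fun u hu => ?_⟩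
  · rw [← cancel_epi Ψ.hom]
    refine Sigma.hom_ext _ _ fun i => ?_
    rw [← Category.assoc, ← Category.assoc, hΨ]
    obtain ⟨V, hV, hmem⟩ := haff i (cl (J i) ≫ cl (Ideal.span {1 - e i}) ≫ f)
    refine ext_of_affine (J i) V hV _ _ hmem fun n => ?_
    rw [← Category.assoc, ← Category.assoc]
    show (cl ((I.map (Ideal.Quotient.mk (Ideal.span {1 - e i}))) ^ n) ≫ _) ≫ f = _
    rw [cl_piece, Category.assoc, h n, ← Category.assoc, ← cl_piece]
  · let v : (i : ι) → (n : ℕ) → (Spec (CommRingCat.of (P i ⧸ J i ^ n)) ⟶ X) :=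
      fun i n => Spec.map (CommRingCat.ofHom (toPiece I (e i) n)) ≫ u n
    have hex : ∀ i, ∃ f : Spec (P i) ⟶ X, ∀ n, cl (J i ^ n) ≫ f = v i n := by
      intro i
      have hle : J i ^ 1 ≤ J i := le_of_eq (pow_one _)
      obtain ⟨V, hV, hmem⟩ := haff i (Spec.map (CommRingCat.ofHom
        (Ideal.Quotient.factor hle)) ≫ v i 1)
      refine exists_of_affine (J i) V hV (v i) (fun n => ?_) (fun p => ?_)
      · simp only [v]
        rw [← hu n, ← Category.assoc, ← Category.assoc, ← Spec.map_comp, ← Spec.map_comp]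
        congr 2
        ext x
        rfl
      · have hs : Function.Surjective (Spec.map (CommRingCat.ofHom
            (Ideal.Quotient.factor hle))).base := by
          intro q
          have hrg := range_comap_of_surjective _ _ (Ideal.Quotient.factor_surjective hle)
          have : q ∈ Set.range (PrimeSpectrum.comap (Ideal.Quotient.factor hle)) := by
            rw [hrg]
            intro x hx
            obtain ⟨y, rfl⟩ := Ideal.Quotient.mk_surjective x
            rw [SetLike.mem_coe, RingHom.mem_ker, Ideal.Quotient.factor_mk,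
              Ideal.Quotient.eq_zero_iff_mem] at hx
            rw [Ideal.Quotient.eq_zero_iff_mem.mpr (by rwa [pow_one])]
            exact zero_mem _
          exact this
        obtain ⟨q, rfl⟩ := hs p
        rw [← Scheme.Hom.comp_apply]
        exact hmem q
    choose f hf using hex
    refine ⟨Ψ.inv ≫ Sigma.desc f, fun n => ?_⟩
    set Q : ι → CommRingCat.{u} := fun i => CommRingCat.of (P i ⧸ J i ^ n) with hQ
    have hbij : Function.Bijective (RingHom.pi fun i => toPiece I (e i) n) := by
      constructor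
      · rw [injective_iff_map_eq_zero]
        intro x hx
        obtain ⟨x, rfl⟩ := Ideal.Quotient.mk_surjective x
        rw [Ideal.Quotient.eq_zero_iff_mem]
        have hx' : ∀ i, e i * x ∈ I ^ n := by
          intro i
          have h1 : Ideal.Quotient.mk (Ideal.span {1 - e i}) x ∈ J i ^ n :=
            Ideal.Quotient.eq_zero_iff_mem.mp (congrFun hx i)
          rw [← Ideal.map_pow, Ideal.mem_map_iff_of_surjective _ Ideal.Quotient.mk_surjective] at h1
          obtain ⟨y, hy, hyx⟩ := h1
          rw [Ideal.Quotient.eq, Ideal.mem_span_singleton] at hyx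
          obtain ⟨c, hc⟩ := hyx
          have : e i * x = e i * y := by
            have h2 := (he.idem i).mul_one_sub_self
            linear_combination (-(c)) * h2 - e i * hc
          rw [this]
          exact Ideal.mul_mem_left _ _ hy
        have : x = ∑ i, e i * x := by rw [← Finset.sum_mul, he.complete, one_mul]
        rw [this]
        exact Ideal.sum_mem _ fun i _ => hx' i
      · intro y
        choose z hz using fun i => Ideal.Quotient.mk_surjective (y i)
        obtain ⟨x, hx⟩ := he.bijective_pi.2 z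
        refine ⟨Ideal.Quotient.mk _ x, funext fun i => ?_⟩
        show toPiece I (e i) n (Ideal.Quotient.mk _ x) = y i
        rw [Ideal.quotientMap_mk, show Ideal.Quotient.mk _ x = z i from congrFun hx i, hz]
    let Ψn : (∐ fun i => Spec (Q i)) ≅ Spec (CommRingCat.of (B ⧸ I ^ n)) :=
      asIso (sigmaSpec Q) ≪≫ Scheme.Spec.mapIso (RingEquiv.toCommRingCatIso
        (RingEquiv.ofBijective _ hbij : (B ⧸ I ^ n) ≃+* Π i, Q i)).op
    have hΨn : ∀ i, Sigma.ι (fun i => Spec (Q i)) i ≫ Ψn.hom =
        Spec.map (CommRingCat.ofHom (toPiece I (e i) n)) := by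
      intro i
      show Sigma.ι _ i ≫ sigmaSpec Q ≫ Spec.map _ = _
      rw [ι_sigmaSpec_assoc, ← Spec.map_comp]
      rfl
    rw [← cancel_epi Ψn.hom]
    refine Sigma.hom_ext _ _ fun i => ?_
    rw [← Category.assoc, ← Category.assoc, hΨn, ← Category.assoc, ← cl_piece, Category.assoc]
    have hi : cl (Ideal.span {1 - e i}) ≫ Ψ.inv ≫ Sigma.desc f = f i := by
      rw [← hΨ i, Category.assoc, Iso.hom_inv_id_assoc, Sigma.ι_desc]
    exact ((congrArg (cl (J i ^ n) ≫ ·) hi).trans (hf i n)).trans
      (by rw [← Category.assoc, hΨn])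

end HomLiftCpl
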